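import Mathlib.GroupTheory.SpecificGroups.Alternating
import Mathlib.GroupTheory.Sylow

/-!
# A group over `A₄` with trivial centralizer and abelian two-subgroups is `A₄`
-/

set_option autoImplicit false
set_option linter.style.haveILetI false

namespace Cfsg.Lib.CentMax

open Subgroup

abbrev A4 := alternatingGroup (Fin 4)

/-- A three-cycle of `A₄`. -/
def yA : A4 := ⟨Equiv.swap 0 1 * Equiv.swap 1 2, Equiv.Perm.mem_alternatingGroup.2 (by decide)⟩

/-- An involution of `A₄`. -/
def vA : A4 := ⟨Equiv.swap 0 1 * Equiv.swap 2 3, Equiv.Perm.mem_alternatingGroup.2 (by decide)⟩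

/-- The other involution. -/
def uA : A4 := yA * vA * yA⁻¹

theorem a4_basic : vA * vA = 1 ∧ vA ≠ 1 ∧ uA * uA = 1 := by decide +kernel

theorem a4_sq : ∀ a : A4, a * a = 1 → a = 1 ∨ a = vA ∨ a = uA ∨ a = vA * uA := by decide +kernel

theorem a4_cent : ∀ a : A4, a * vA = vA * a → a * uA = uA * a → a * a = 1 := by decide +kernel

theorem a4_gen : ∀ a : A4, ∃ b : A4, b * b = 1 ∧ (a = b ∨ a = b * yA ∨ a = b * yA * yA) := by
  decide +kernel

theorem a4_klein : ∀ a b : A4, a * a = 1 → b * b = 1 → a * b * (a * b) = 1 ∧ a * b = b * a := by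
  decide +kernel

theorem a4_inj : ∀ a b : Fin 3,
    (![vA, uA, vA * uA] : Fin 3 → A4) a = ![vA, uA, vA * uA] b → a = b := by decide +kernel

theorem a4_ne : ∀ a : Fin 3, (![vA, uA, vA * uA] : Fin 3 → A4) a ≠ 1 := by decide +kernel

variable {E : Type*} [Group E] [Finite E]

/-- The result. -/
theorem eq_top_of_alt_four (E0 : Subgroup E) [E0.Normal] (e : A4 ≃* E0)
    (hC : centralizer (E0 : Set E) = ⊥)
    (hab : ∀ P : Subgroup E, IsPGroup 2 P → ∀ a ∈ P, ∀ b ∈ P, a * b = b * a) : E0 = ⊤ := by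
  classical
  haveI : Fact (Nat.Prime 2) := ⟨Nat.prime_two⟩
  obtain ⟨hv, hv1, hu⟩ := a4_basic
  have hsq := a4_sq
  have hcent := a4_cent
  have hgen := a4_gen
  have hcl := a4_klein
  -- the four group
  let V : Subgroup E :=
    { carrier := {x | ∃ a : A4, a * a = 1 ∧ ((e a : E0) : E) = x}
      one_mem' := ⟨1, one_mul 1, by simp⟩
      mul_mem' := by
        rintro _ _ ⟨a, ha, rfl⟩ ⟨b, hb, rfl⟩
        exact ⟨a * b, (hcl a b ha hb).1, by simp⟩
      inv_mem' := by
        rintro _ ⟨a, ha, rfl⟩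
        exact ⟨a⁻¹, by rw [← mul_inv_rev, ha, inv_one], by simp⟩ }
  have hVmem : ∀ a : A4, a * a = 1 → ((e a : E0) : E) ∈ V := fun a ha => ⟨a, ha, rfl⟩
  have hVn : ∀ (g : E), ∀ x ∈ V, g * x * g⁻¹ ∈ V := by
    rintro g _ ⟨a, ha, rfl⟩
    have h0 : g * (e a : E) * g⁻¹ ∈ E0 := Subgroup.Normal.conj_mem inferInstance _ (e a).2 g
    refine ⟨e.symm ⟨_, h0⟩, e.injective ?_, by simp⟩
    rw [map_mul, MulEquiv.apply_symm_apply, map_one]
    refine Subtype.ext ?_
    show g * (e a : E) * g⁻¹ * (g * (e a : E) * g⁻¹) = 1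
    calc g * (e a : E) * g⁻¹ * (g * (e a : E) * g⁻¹) = g * ((e (a * a) : E0) : E) * g⁻¹ := by
          rw [map_mul, Subgroup.coe_mul]; group
      _ = 1 := by rw [ha, map_one, OneMemClass.coe_one, mul_one, mul_inv_cancel]
  have hV4 : Nat.card V ≤ 4 := by
    have hsur : Function.Surjective (fun a : Fin 4 => (⟨((e (![1, vA, uA, vA * uA] a) : E0) : E),
        hVmem _ (by fin_cases a <;> decide)⟩ : V)) := by
      rintro ⟨_, a, ha, rfl⟩
      rcases hsq a ha with h | h | h | h
      · exact ⟨0, Subtype.ext (by simp [h])⟩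
      · exact ⟨1, Subtype.ext (by simp [h])⟩
      · exact ⟨2, Subtype.ext (by simp [h])⟩
      · exact ⟨3, Subtype.ext (by simp [h])⟩
    simpa using Nat.card_le_card_of_surjective _ hsur
  have hVp : IsPGroup 2 V := fun x => ⟨1, by
    obtain ⟨a, ha, hax⟩ := x.2
    refine Subtype.ext ?_
    rw [pow_one, sq, Subgroup.coe_mul, ← hax, OneMemClass.coe_one, ← Subgroup.coe_mul, ← map_mul,
      ha, map_one, OneMemClass.coe_one]⟩
  set C := centralizer (V : Set E) with hCdef
  have hCv : ∀ x ∈ C, ∀ a : A4, a * a = 1 → x * (e a : E) = (e a : E) * x := fun x hx a ha =>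
    (mem_centralizer_iff.1 hx _ (hVmem a ha)).symm
  -- the centralizer is small
  set Y : E := ((e yA : E0) : E) with hY
  have hd : ∀ x ∈ C, ∃ v : V, x * Y * x⁻¹ = Y * v := by
    intro x hx
    have h0 : x * Y * x⁻¹ ∈ E0 := Subgroup.Normal.conj_mem inferInstance _ (e yA).2 x
    set b := e.symm ⟨_, h0⟩ with hb
    have hbE : ((e b : E0) : E) = x * Y * x⁻¹ := by simp [hb]
    have hcm : ∀ a : A4, a * a = 1 → b * a * b⁻¹ = yA * a * yA⁻¹ := by
      intro a ha
      refine e.injective (Subtype.ext ?_)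
      simp only [map_mul, map_inv, Subgroup.coe_mul, Subgroup.coe_inv]
      rw [hbE]
      have h1 : x⁻¹ * (e a : E) * x = e a := by
        rw [mul_assoc, ← hCv x hx a ha, inv_mul_cancel_left]
      have h2 : (yA * a * yA⁻¹) * (yA * a * yA⁻¹) = 1 := by
        calc yA * a * yA⁻¹ * (yA * a * yA⁻¹) = yA * (a * a) * yA⁻¹ := by group
          _ = 1 := by rw [ha]; group
      have h3 := hCv x hx _ h2
      simp only [map_mul, map_inv, Subgroup.coe_mul, Subgroup.coe_inv, ← hY] at h3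
      calc x * Y * x⁻¹ * (e a : E) * (x * Y * x⁻¹)⁻¹
          = x * (Y * (x⁻¹ * (e a : E) * x) * Y⁻¹) * x⁻¹ := by group
        _ = x * (Y * (e a : E) * Y⁻¹) * x⁻¹ := by rw [h1]
        _ = Y * (e a : E) * Y⁻¹ := by rw [h3, mul_inv_cancel_right]
    have hc : ∀ a : A4, a * a = 1 → yA⁻¹ * b * a = a * (yA⁻¹ * b) := by
      intro a ha
      calc yA⁻¹ * b * a = yA⁻¹ * (b * a * b⁻¹) * b := by group
        _ = a * (yA⁻¹ * b) := by rw [hcm a ha]; group
    refine ⟨⟨_, hVmem (yA⁻¹ * b) (hcent _ (hc _ hv) (hc _ hu))⟩, ?_⟩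
    rw [← hbE]
    simp only [map_mul, map_inv, Subgroup.coe_mul, Subgroup.coe_inv, ← hY, mul_inv_cancel_left]
  choose d hd using hd
  have hinj : Function.Injective (fun x : C => d x x.2) := by
    intro x y h
    have h' : (x : E) * Y * (x : E)⁻¹ = y * Y * (y : E)⁻¹ := by
      rw [hd x x.2, hd y y.2, show d x x.2 = d y y.2 from h]
    set k := (y : E)⁻¹ * x with hk
    have hkY : k * Y = Y * k := by
      calc k * Y = (y : E)⁻¹ * (x * Y * (x : E)⁻¹) * x := by rw [hk]; group
        _ = Y * k := by rw [h', hk]; group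
    have hkC : k ∈ C := mul_mem (inv_mem y.2) x.2
    have hk1 : k ∈ centralizer (E0 : Set E) := mem_centralizer_iff.2 fun z hz => by
      obtain ⟨a, ha⟩ := e.surjective ⟨z, hz⟩
      rw [show z = ((e a : E0) : E) by rw [ha]]
      obtain ⟨b, hb, hab'⟩ := hgen a
      have h1 : Commute k (e b : E) := hCv k hkC b hb
      have h2 : Commute k Y := hkY
      rcases hab' with rfl | rfl | rfl
      · exact h1.symm
      · rw [map_mul, Subgroup.coe_mul]; exact (h1.mul_right h2).symm
      · rw [map_mul, map_mul, Subgroup.coe_mul, Subgroup.coe_mul]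
        exact ((h1.mul_right h2).mul_right h2).symm
    rw [hC, mem_bot, hk, inv_mul_eq_one] at hk1
    exact Subtype.ext hk1.symm
  have hVE : V ≤ E0 := by rintro _ ⟨a, -, rfl⟩; exact (e a).2
  have hVC : V ≤ C := fun x hx => mem_centralizer_iff.2 fun y hy => by
    obtain ⟨a, ha, rfl⟩ := hx
    obtain ⟨b, hb, rfl⟩ := hy
    rw [← Subgroup.coe_mul, ← map_mul, (hcl b a hb ha).2, map_mul, Subgroup.coe_mul]
  have hCV : V = C := eq_of_le_of_card_ge hVC (Nat.card_le_card_of_injective _ hinj)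
  -- elements act on `V` like elements of `E0`
  refine eq_top_iff.2 fun g _ => ?_
  obtain ⟨P, hP⟩ := hVp.exists_le_sylow
  have hPV : (P : Subgroup E) ≤ V := fun x hx => by
    rw [hCV]
    exact mem_centralizer_iff.2 fun v hv => hab _ P.2 v (hP hv) x hx
  have hPe : (P : Subgroup E) = V := le_antisymm hPV hP
  haveI : V.Normal := ⟨fun x hx g => hVn g x hx⟩
  -- conjugation on the three involutions
  set w : Fin 3 → V := fun a => ⟨((e (![vA, uA, vA * uA] a) : E0) : E),
    hVmem _ (by fin_cases a <;> decide)⟩ with hw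
  have hwinj : Function.Injective w := fun a b h => by
    have h1 : (![vA, uA, vA * uA] : Fin 3 → A4) a = ![vA, uA, vA * uA] b :=
      e.injective (Subtype.ext (congrArg Subtype.val h :))
    exact a4_inj a b h1
  have hwall : ∀ x : V, x ≠ 1 → ∃ a, w a = x := by
    rintro ⟨_, a, ha, rfl⟩ hne
    rcases hsq a ha with h | h | h | h
    · exact absurd (Subtype.ext (by simp [h])) hne
    · exact ⟨0, Subtype.ext (by simp [hw, h])⟩
    · exact ⟨1, Subtype.ext (by simp [hw, h])⟩
    · exact ⟨2, Subtype.ext (by simp [hw, h])⟩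
  have hw1 : ∀ a, w a ≠ 1 := fun a h => by
    have h1 : (![vA, uA, vA * uA] : Fin 3 → A4) a = 1 := e.map_eq_one_iff.1 (Subtype.ext
      (congrArg Subtype.val h :))
    exact a4_ne a h1
  choose π hπ using fun (g : E) (a : Fin 3) =>
    hwall (MulAut.conjNormal g (w a)) fun h => hw1 a ((MulAut.conjNormal g).map_eq_one_iff.1 h)
  have hmul : ∀ g g' a, π (g * g') a = π g (π g' a) := fun g g' a => hwinj (by
    rw [hπ, hπ, hπ, map_mul]; rfl)
  have hone : ∀ a, π 1 a = a := fun a => hwinj (by rw [hπ, map_one]; rfl)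
  let ρ : E →* Equiv.Perm (Fin 3) :=
    MonoidHom.mk' (fun g => ⟨π g, π g⁻¹, fun a => by rw [← hmul, inv_mul_cancel, hone],
      fun a => by rw [← hmul, mul_inv_cancel, hone]⟩)
      fun g g' => Equiv.ext fun a => hmul g g' a
  have hker : ρ.ker ≤ V := fun x hx => by
    rw [hCV]
    refine mem_centralizer_iff.2 fun v hv => ?_
    by_cases h1 : (⟨v, hv⟩ : V) = 1
    · rw [show v = 1 from congrArg Subtype.val h1, one_mul, mul_one]
    obtain ⟨a, ha⟩ := hwall _ h1
    have h2 : π x a = a := Equiv.ext_iff.1 (MonoidHom.mem_ker.1 hx) a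
    have h3 := congrArg Subtype.val ((congrArg w h2).symm.trans (hπ x a))
    rw [MulAut.conjNormal_apply, ha] at h3
    exact (eq_mul_inv_iff_mul_eq.1 h3)
  have hodd : ¬ 2 ∣ V.index := hPe ▸ P.not_dvd_index
  have hidx : ρ.ker.index ∣ 6 := by
    rw [index_ker]
    have h := ρ.range.card_subgroup_dvd_card
    rw [Nat.card_perm, Nat.card_eq_fintype_card (α := Fin 3), Fintype.card_fin] at h
    exact h
  have hV6 : V.index ∣ 6 := (index_dvd_of_le hker).trans hidx
  have hV3 : V.index ∣ 3 :=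
    ((Nat.Prime.coprime_iff_not_dvd Nat.prime_two).2 hodd).symm.dvd_of_dvd_mul_left
      (show V.index ∣ 2 * 3 from hV6)
  have h12 : Nat.card E ≤ 12 := by
    rw [← V.card_mul_index]
    exact le_trans (Nat.mul_le_mul hV4 (Nat.le_of_dvd (by norm_num) hV3)) le_rfl
  have hE0 : E0 = ⊤ := eq_top_of_le_card _ (by
    rw [← Nat.card_congr e.toEquiv, Nat.card_eq_fintype_card (α := A4)]
    exact le_trans h12 (le_of_eq (by decide)))
  rw [hE0]
  exact mem_top g

end Cfsg.Lib.CentMax
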