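import Cfsg.Agent.Lib.Walter8.ModelPSL
import Cfsg.Agent.Lib.Walter8.Centralizers
import Cfsg.Agent.S0253
import Cfsg.Agent.S0252
import Mathlib.GroupTheory.FixedPointFree

/-!
# No odd subgroup of `PSL₂(q)` is inverted by an involution and normalized by its centralizer

For `q ≡ 3, 5 (mod 8)` and such a subgroup `X`, some involution `i` commuting with the given one
centralizes a nontrivial element of `X`; the torus of `i` then contains `X` and would be normalized
by an element of odd order inverted by `i`.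
-/

set_option autoImplicit false
set_option linter.unusedSectionVars false
set_option linter.style.haveILetI false

namespace Cfsg.Lib.CentMax

open Subgroup Cfsg Cfsg.Lib.Walter8

universe u

variable {L : Type u} [Group L] [Finite L]

/-- Inversion makes the group abelian. -/
theorem comm_of_inverted {z : L} (X : Subgroup L) (h : ∀ x ∈ X, z * x * z⁻¹ = x⁻¹) {a b : L}
    (ha : a ∈ X) (hb : b ∈ X) : a * b = b * a := by
  have h1 := h _ (mul_mem ha hb)
  rw [conj_mul', h a ha, h b hb, mul_inv_rev] at h1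
  have h2 := congrArg (·⁻¹) h1
  simpa using h2.symm

/-- An odd group normalized by a commuting pair of involutions, the first inverting, has an element
centralized by the second or by the product. -/
theorem exists_fixed {z i : L} (hi : i * i = 1) (hzi : z * i = i * z) (X : Subgroup L)
    (hodd : Odd (Nat.card X)) (hinv : ∀ x ∈ X, z * x * z⁻¹ = x⁻¹)
    (hiX : ∀ x ∈ X, i * x * i⁻¹ ∈ X) (hX : X ≠ ⊥) :
    ∃ j, (j = i ∨ j = i * z) ∧ ∃ x ∈ X, x ≠ 1 ∧ x * j = j * x := by
  by_contra h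
  push Not at h
  let φ : X →* X :=
    { toFun := fun x => ⟨i * x * i⁻¹, hiX x x.2⟩
      map_one' := Subtype.ext (by simp)
      map_mul' := fun a b => Subtype.ext (by simp only [Subgroup.coe_mul]; group) }
  have hfp : MonoidHom.FixedPointFree φ := fun x hx => by
    by_contra hne
    refine h i (Or.inl rfl) x x.2 (fun e => hne (Subtype.ext e)) ?_
    have h1 : i * (x : L) * i⁻¹ = x := congrArg Subtype.val hx
    exact (mul_inv_eq_iff_eq_mul.1 h1).symm
  have hinvo : Function.Involutive φ := fun x => Subtype.ext (by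
    show i * (i * x * i⁻¹) * i⁻¹ = x
    have hii : i⁻¹ = i := inv_eq_of_mul_eq_one_right hi
    calc i * (i * x * i⁻¹) * i⁻¹ = (i * i) * x * (i⁻¹ * i⁻¹) := by group
      _ = x := by rw [hii, hi, one_mul, mul_one])
  have hall := hfp.coe_eq_inv_of_involutive hinvo
  obtain ⟨x, hx, hx1⟩ := (Subgroup.bot_or_exists_ne_one X).resolve_left hX
  have h1 : i * x * i⁻¹ = x⁻¹ := congrArg Subtype.val (congrFun hall ⟨x, hx⟩)
  refine h (i * z) (Or.inr rfl) x hx hx1 ?_
  have h2 : i * z * x * (i * z)⁻¹ = x := by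
    calc i * z * x * (i * z)⁻¹ = i * (z * x * z⁻¹) * i⁻¹ := by group
      _ = i * x⁻¹ * i⁻¹ := by rw [hinv x hx]
      _ = (i * x * i⁻¹)⁻¹ := by group
      _ = x := by rw [h1, inv_inv]
  exact (mul_inv_eq_iff_eq_mul.1 h2).symm

/-- The model case. -/
theorem eq_bot_of_model (D : LModel L) (X : Subgroup L) (hodd : Odd (Nat.card X))
    (hinv : ∀ x ∈ X, D.z * x * D.z⁻¹ = x⁻¹)
    (hnorm : ∀ g : L, g * D.z = D.z * g → ∀ x ∈ X, g * x * g⁻¹ ∈ X) : X = ⊥ := by
  by_contra hX
  obtain ⟨j, hj, x, hx, hx1, hxj⟩ := exists_fixed D.i_sq (D.i_z).symm X hodd hinv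
    (fun x hx => hnorm _ D.i_z x hx) hX
  have hjz : j * D.z = D.z * j := by
    rcases hj with rfl | rfl
    · exact D.i_z
    · rw [← mul_assoc, ← D.i_z]
  have hjy : j * D.y * j⁻¹ = D.y⁻¹ := by
    rcases hj with rfl | rfl
    · exact D.i_y
    · calc D.i * D.z * D.y * (D.i * D.z)⁻¹ = D.i * (D.z * D.y * D.z⁻¹) * D.i⁻¹ := by group
        _ = D.y⁻¹ := by rw [← D.y_z, mul_inv_cancel_right, D.i_y]
  have hj2 : j * j = 1 := by
    rcases hj with rfl | rfl
    · exact D.i_sq
    · rw [mul_assoc, ← mul_assoc D.z D.i, ← D.i_z, mul_assoc, D.z_sq, mul_one, D.i_sq]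
  have hj1 : j ≠ 1 := fun e => by
    rw [e, one_mul, inv_one, mul_one] at hjy
    have h2 : D.y ^ 2 = 1 := by rw [sq]; nth_rewrite 1 [hjy]; exact inv_mul_cancel _
    have h3 := orderOf_dvd_of_pow_eq_one h2
    rw [D.orderOf_y] at h3
    have := Nat.le_of_dvd two_pos h3
    have := D.T_facts
    omega
  obtain ⟨g, hg⟩ := D.involutions_conj j hj2 hj1
  -- the centralizer of a point of `X` fixed by `j`
  have hmem : ∀ x' ∈ X, x' ≠ 1 → x' * j = j * x' →
      g⁻¹ * x' * g ∈ zpowers D.y ∧ g⁻¹ * x' * g ≠ 1 := by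
    intro x' hx' hx'1 hc
    set c := g⁻¹ * x' * g with hc'
    have hcz : c * D.z = D.z * c := by
      rw [hc', show D.z = g⁻¹ * j * g by rw [← hg]; group]
      calc g⁻¹ * x' * g * (g⁻¹ * j * g) = g⁻¹ * (x' * j) * g := by group
        _ = g⁻¹ * (j * x') * g := by rw [hc]
        _ = g⁻¹ * j * g * (g⁻¹ * x' * g) := by group
    have hc1 : c ≠ 1 := fun e => hx'1 (by
      calc x' = g * c * g⁻¹ := by rw [hc']; group
        _ = 1 := by rw [e]; group)
    have hco : Odd (orderOf c) := by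
      rw [hc', show g⁻¹ * x' * g = MulAut.conj g⁻¹ x' by simp, MulEquiv.orderOf_eq]
      exact hodd.of_dvd_nat (X.orderOf_dvd_natCard hx')
    refine ⟨?_, hc1⟩
    obtain ⟨s, hs, hcs⟩ := D.cent_z c hcz
    have hno : ∀ v : L, c = v → v * v = 1 → False := fun v e hv => by
      have h2 : orderOf c ∣ 2 := orderOf_dvd_of_pow_eq_one (by rw [sq, e]; exact hv)
      rcases (Nat.dvd_prime Nat.prime_two).1 h2 with h | h
      · exact hc1 (orderOf_eq_one_iff.1 h)
      · rw [h] at hco; exact absurd hco (by decide)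
    rcases hcs with e | e | e | e
    · rw [e]; exact hs
    · exfalso
      have h2 : (s * D.z) ^ D.T = D.z := by
        rw [(D.comm_z hs).mul_pow, D.pow_T_of_mem hs, one_mul]
        obtain ⟨k, hk⟩ : Odd D.T := Nat.odd_iff.2 D.T_facts.1
        rw [hk, pow_succ, pow_mul, sq, D.z_sq, one_pow, one_mul]
      have h3 : orderOf D.z ∣ orderOf c := by
        rw [e]
        nth_rewrite 1 [← h2]
        exact orderOf_pow_dvd _
      rw [D.orderOf_z] at h3
      exact absurd (hco.of_dvd_nat h3) (by decide)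
    · exact (hno _ e (D.si_sq hs)).elim
    · exact (hno _ e (D.szi_sq hs)).elim
  have hXle : ∀ x' ∈ X, x' ≠ 1 → x' * j = j * x' := by
    intro x' hx' hx'1
    obtain ⟨hc, hc1⟩ := hmem x hx hx1 hxj
    set c := g⁻¹ * x * g with hcdef
    have hcomm : g⁻¹ * x' * g * c = c * (g⁻¹ * x' * g) := by
      rw [hcdef]
      calc g⁻¹ * x' * g * (g⁻¹ * x * g) = g⁻¹ * (x' * x) * g := by group
        _ = g⁻¹ * (x * x') * g := by rw [comm_of_inverted X hinv hx' hx]
        _ = g⁻¹ * x * g * (g⁻¹ * x' * g) := by group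
    have key : g⁻¹ * x' * g * D.z = D.z * (g⁻¹ * x' * g) := by
      rcases D.cent_y c hc hc1 _ hcomm with h | h
      · exact (D.comm_z h).eq
      · have h2 := (D.comm_z h).eq
        rw [mul_assoc, D.z_sq, mul_one, ← mul_assoc] at h2
        calc g⁻¹ * x' * g * D.z = D.z * (g⁻¹ * x' * g) * D.z * D.z := by rw [← h2]
          _ = D.z * (g⁻¹ * x' * g) := by rw [mul_assoc, D.z_sq, mul_one]
    rw [← hg]
    calc x' * (g * D.z * g⁻¹) = g * (g⁻¹ * x' * g * D.z) * g⁻¹ := by group
      _ = g * (D.z * (g⁻¹ * x' * g)) * g⁻¹ := by rw [key]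
      _ = g * D.z * g⁻¹ * x' := by group
  -- the torus of `z` moves `j` but normalizes its torus
  set x' := D.y * x * D.y⁻¹ with hx'def
  have hx' : x' ∈ X := hnorm _ D.y_z x hx
  have hx'1 : x' ≠ 1 := fun e => hx1 (conj_eq_one_iff.1 e)
  have hx'j := hXle x' hx' hx'1
  set j' := D.y * j * D.y⁻¹ with hj'def
  have hx'j' : x' * j' = j' * x' := by
    rw [hx'def, hj'def, ← conj_mul', ← conj_mul', hxj]
  obtain ⟨hc', hc'1⟩ := hmem x' hx' hx'1 hx'j
  set c' := g⁻¹ * x' * g with hc'def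
  set v := g⁻¹ * j' * g with hvdef
  have hv2 : v * v = 1 := by
    have hj'2 : j' * j' = 1 := by
      rw [hj'def, ← conj_mul', hj2, mul_one, mul_inv_cancel]
    rw [hvdef]
    calc g⁻¹ * j' * g * (g⁻¹ * j' * g) = g⁻¹ * (j' * j') * g := by group
      _ = 1 := by rw [hj'2]; group
  have hvc : v * c' = c' * v := by
    rw [hvdef, hc'def]
    calc g⁻¹ * j' * g * (g⁻¹ * x' * g) = g⁻¹ * (j' * x') * g := by group
      _ = g⁻¹ * (x' * j') * g := by rw [hx'j']
      _ = g⁻¹ * x' * g * (g⁻¹ * j' * g) := by group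
  have hoddT : ∀ w : L, w ∈ zpowers D.y → w * w = 1 → w = 1 := fun w hw h2 => by
    have h3 : orderOf w ∣ 2 := orderOf_dvd_of_pow_eq_one (by rw [sq]; exact h2)
    have h4 : orderOf w ∣ D.T := orderOf_dvd_of_pow_eq_one (D.pow_T_of_mem hw)
    have hT : Odd D.T := Nat.odd_iff.2 D.T_facts.1
    rcases (Nat.dvd_prime Nat.prime_two).1 h3 with h | h
    · exact orderOf_eq_one_iff.1 h
    · rw [h] at h4; exact absurd (hT.of_dvd_nat h4) (by decide)
  have hvz : v = D.z := by
    have hv1 : v ≠ 1 := fun e => by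
      have e1 : j' = 1 := by
        calc j' = g * v * g⁻¹ := by rw [hvdef]; group
          _ = 1 := by rw [e]; group
      exact hj1 (conj_eq_one_iff.1 e1)
    rcases D.cent_y c' hc' hc'1 v hvc with h | h
    · exact absurd (hoddT v h hv2) hv1
    · have hcz := (D.comm_z h).eq
      have hcomm : v * D.z = D.z * v := by
        rw [mul_assoc, D.z_sq, mul_one, ← mul_assoc] at hcz
        calc v * D.z = D.z * v * D.z * D.z := by rw [← hcz]
          _ = D.z * v := by rw [mul_assoc, D.z_sq, mul_one]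
      have h2 : v * D.z * (v * D.z) = 1 := by
        calc v * D.z * (v * D.z) = v * (D.z * v) * D.z := by group
          _ = v * v * (D.z * D.z) := by rw [← hcomm]; group
          _ = 1 := by rw [hv2, D.z_sq, one_mul]
      have h3 := hoddT _ h h2
      calc v = v * D.z * D.z := by rw [mul_assoc, D.z_sq, mul_one]
        _ = D.z := by rw [h3, one_mul]
  have hjj : j' = j := by
    calc j' = g * v * g⁻¹ := by rw [hvdef]; group
      _ = j := by rw [hvz, hg]
  rw [hj'def, mul_inv_eq_iff_eq_mul] at hjj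
  have hinvy : D.y⁻¹ = D.y := by
    rw [← hjy, ← hjj, mul_inv_cancel_right]
  have h2 : D.y ^ 2 = 1 := by rw [sq]; nth_rewrite 1 [← hinvy]; exact inv_mul_cancel _
  have h3 := orderOf_dvd_of_pow_eq_one h2
  rw [D.orderOf_y] at h3
  have := Nat.le_of_dvd two_pos h3
  have := D.T_facts
  omega

/-- The case of `A₅`. -/
theorem eq_bot_of_alt_five (e : L ≃* alternatingGroup (Fin 5)) {z : L} (hz : z * z = 1)
    (hz1 : z ≠ 1) (X : Subgroup L) (hodd : Odd (Nat.card X))
    (hinv : ∀ x ∈ X, z * x * z⁻¹ = x⁻¹)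
    (hnorm : ∀ g : L, g * z = z * g → ∀ x ∈ X, g * x * g⁻¹ ∈ X) : X = ⊥ := by
  by_contra hX
  obtain ⟨i, hi, hi1, hiz, hci⟩ : ∃ i : L, i * i = 1 ∧ i ≠ 1 ∧ i ≠ z ∧ z * i = i * z := by
    have key : ∀ s : alternatingGroup (Fin 5), ¬ (s * s = 1 ∧ s ≠ 1) ∨
        ∃ u, u * u = 1 ∧ u ≠ 1 ∧ u ≠ s ∧ s * u = u * s := by decide +kernel
    obtain ⟨u, h1, h2, h3, h4⟩ := (key (e z)).resolve_left (fun h => h
      ⟨by rw [← map_mul, hz, map_one], fun h' => hz1 (e.map_eq_one_iff.1 h')⟩)
    refine ⟨e.symm u, ?_, fun h => h2 ?_, fun h => h3 ?_, e.injective ?_⟩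
    · rw [← map_mul, h1, map_one]
    · rw [← e.apply_symm_apply u, h, map_one]
    · rw [← e.apply_symm_apply u, h]
    · simp [h4]
  obtain ⟨j, hj, x, hx, hx1, hxj⟩ := exists_fixed hi hci X hodd hinv
    (fun x hx => hnorm _ hci.symm x hx) hX
  have hj2 : j * j = 1 ∧ j ≠ 1 := by
    rcases hj with rfl | rfl
    · exact ⟨hi, hi1⟩
    · refine ⟨?_, fun h => hiz ?_⟩
      · rw [mul_assoc, ← mul_assoc z i, hci, mul_assoc, hz, mul_one, hi]
      · calc i = i * z * z := by rw [mul_assoc, hz, mul_one]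
          _ = z := by rw [h, one_mul]
  have h5 := alt_five_cent (e j) (e x) (by rw [← map_mul, hj2.1, map_one])
    (fun h => hj2.2 (e.map_eq_one_iff.1 h)) (by rw [← map_mul, ← map_mul, hxj])
  rw [← map_mul, e.map_eq_one_iff] at h5
  rcases (Nat.dvd_prime Nat.prime_two).1 (orderOf_dvd_of_pow_eq_one (x := x) (by rw [sq]; exact h5))
    with h | h
  · exact hx1 (orderOf_eq_one_iff.1 h)
  · have h6 := hodd.of_dvd_nat (X.orderOf_dvd_natCard hx)
    rw [h] at h6; exact absurd h6 (by decide)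

/-- No odd subgroup of `PSL₂(q)` is inverted by an involution and normalized by its centralizer. -/
theorem eq_bot_of_psl {F : Type} [Field F] [Fintype F]
    (h8 : Fintype.card F % 8 = 3 ∨ Fintype.card F % 8 = 5) (h5 : 5 ≤ Fintype.card F)
    (e : L ≃* Matrix.ProjectiveSpecialLinearGroup (Fin 2) F) {z : L} (hz : z * z = 1) (hz1 : z ≠ 1)
    (X : Subgroup L) (hodd : Odd (Nat.card X)) (hinv : ∀ x ∈ X, z * x * z⁻¹ = x⁻¹)
    (hnorm : ∀ g : L, g * z = z * g → ∀ x ∈ X, g * x * g⁻¹ ∈ X) : X = ⊥ := by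
  by_cases hq : Fintype.card F = 5
  · obtain ⟨ψ⟩ : Nonempty (Matrix.ProjectiveSpecialLinearGroup (Fin 2) F ≃* alternatingGroup (Fin 5)) :=
      Cfsg.Agent.S0253.result hq
    exact eq_bot_of_alt_five (e.trans ψ) hz hz1 X hodd hinv hnorm
  obtain ⟨D, -⟩ := exists_LModel e (by omega) h8
  obtain ⟨g, hg⟩ := D.involutions_conj z hz hz1
  set c := (MulAut.conj g⁻¹ : MulAut L) with hc
  have hcz : c z = D.z := by
    rw [hc, MulAut.conj_apply, inv_inv, ← hg]; group
  have hcz' : ∀ a : L, c.symm a * z = z * c.symm a ↔ a * D.z = D.z * a := fun a => by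
    rw [← c.injective.eq_iff, map_mul, map_mul, hcz, MulEquiv.apply_symm_apply]
  have hmap : X.map c.toMonoidHom = ⊥ := by
    refine eq_bot_of_model D _ ?_ ?_ ?_
    · rwa [← Nat.card_congr (X.equivMapOfInjective c.toMonoidHom c.injective).toEquiv]
    · rintro _ ⟨x, hx, rfl⟩
      rw [← hcz, MulEquiv.coe_toMonoidHom, ← map_inv, ← map_mul, ← map_mul, hinv x hx, map_inv]
    · rintro a ha _ ⟨x, hx, rfl⟩
      exact ⟨_, hnorm _ ((hcz' a).2 ha) x hx, by simp⟩
  exact (map_eq_bot_iff_of_injective _ c.injective).1 hmap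

end Cfsg.Lib.CentMax
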