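import Cfsg.Agent.Lib.AllAb.Main
import Cfsg.Agent.Lib.WalterBig.Main
import Cfsg.Agent.Lib.Walter3.CaseSplit

/-!
# A nonsolvable involution centralizer in a simple group with abelian Sylow two-subgroups

The Sylow two-subgroups are elementary of order eight with automizer of order 21, and there is one
class of involutions.
-/

set_option autoImplicit false
set_option linter.unusedSectionVars false
set_option linter.style.haveILetI false

namespace Cfsg.Lib.CentMax

open Subgroup Cfsg Matrix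
open Cfsg.Lib

universe u

variable {G : Type u} [Group G] [Finite G]

/-- All Sylow subgroups are abelian once one is. -/
theorem sylow_comm {p : ℕ} [Fact p.Prime] (T : Sylow p G) (hT : IsMulCommutative (T : Subgroup G))
    (Q : Sylow p G) : IsMulCommutative (Q : Subgroup G) := by
  refine ⟨⟨fun a b => ?_⟩⟩
  obtain ⟨c, hc⟩ := MulAction.exists_smul_eq G Q T
  have hmem : ∀ x ∈ (Q : Subgroup G), c * x * c⁻¹ ∈ (T : Subgroup G) := fun x hx => by
    rw [← hc, Sylow.coe_subgroup_smul]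
    exact ⟨x, hx, rfl⟩
  have h : c * (a : G) * c⁻¹ * (c * b * c⁻¹) = c * b * c⁻¹ * (c * a * c⁻¹) :=
    congrArg Subtype.val (hT.is_comm.comm (⟨_, hmem a a.2⟩ : (T : Subgroup G)) ⟨_, hmem b b.2⟩)
  refine Subtype.ext ?_
  show (a : G) * b = b * a
  refine mul_left_cancel (a := c) (mul_right_cancel (b := c⁻¹) ?_)
  calc c * ((a : G) * b) * c⁻¹ = c * a * c⁻¹ * (c * b * c⁻¹) := by group
    _ = c * b * c⁻¹ * (c * a * c⁻¹) := h
    _ = c * ((b : G) * a) * c⁻¹ := by group

variable [IsSimpleGroup G]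

/-- Involution centralizers of `PSL₂(2^a)` are solvable. -/
theorem solvable_of_pslTwoPow (h : WalterBig.IsPSLTwoPow G) {t : G} (ht : orderOf t = 2) :
    Group.IsSolvable ↥(centralizer ({t} : Set G)) := by
  obtain ⟨a, F, i, j, -, hF, ⟨f⟩⟩ := h
  haveI : Fact (Nat.Prime 2) := ⟨Nat.prime_two⟩
  obtain ⟨S⟩ : Nonempty (Sylow 2 G) := inferInstance
  obtain ⟨-, -, -, hsol⟩ := WalterBig.psl_two_torus hF f S
  refine hsol t ?_ fun h => by rw [h, orderOf_one] at ht; omega
  rw [← pow_two, ← ht, pow_orderOf_eq_one]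

/-- The Sylow subgroup through `t`. -/
theorem exists_setting (hna : ¬ IsMulCommutative G) (T : Sylow 2 G)
    (hT : IsMulCommutative (T : Subgroup G)) {t : G} (ht : orderOf t = 2)
    (hns : ¬ Group.IsSolvable ↥(centralizer ({t} : Set G))) :
    ∃ P : Sylow 2 G, IsMulCommutative (P : Subgroup G) ∧ Nat.card (P : Subgroup G) = 8 ∧
      IsElementaryAbelian 2 (P : Subgroup G) ∧ Nat.card (E8Cent.automizer P) = 21 ∧
      t ∈ (P : Subgroup G) := by
  classical
  haveI : Fact (Nat.Prime 2) := ⟨Nat.prime_two⟩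
  obtain ⟨P, hP⟩ := (IsPGroup.of_card (n := 1) (by rw [Nat.card_zpowers, ht, pow_one]) :
    IsPGroup 2 (zpowers t)).exists_le_sylow
  have htP : t ∈ (P : Subgroup G) := hP (mem_zpowers t)
  haveI hPc := sylow_comm T hT P
  have hbig : ¬ (¬ (∀ v ∈ (P : Subgroup G), v * v = 1) ∨ 16 ≤ Nat.card (P : Subgroup G)) :=
    fun h => hns (solvable_of_pslTwoPow (WalterBig.big hna P hPc h) ht)
  push Not at hbig
  obtain ⟨helem, hlt⟩ := hbig
  have hel : IsElementaryAbelian 2 (P : Subgroup G) := ⟨hPc, fun y hy => by rw [pow_two]; exact helem y hy⟩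
  have h8 : Nat.card (P : Subgroup G) = 8 := by
    obtain ⟨k, hk⟩ := IsPGroup.iff_card.1 P.2
    rw [hk] at hlt ⊢
    have h3 : k = 3 := by
      by_contra hne
      refine hns (AllAb.solvable_cent_of_small P ?_ htP ht)
      rw [hk]
      have hk4 : k < 4 := (Nat.pow_lt_pow_iff_right (by norm_num)).1 (show 2 ^ k < 2 ^ 4 from hlt)
      exact le_trans (Nat.pow_le_pow_right two_pos (show k ≤ 2 by omega)) (by norm_num)
    rw [h3]; norm_num
  have ht1 : t ≠ 1 := fun h => by rw [h, orderOf_one] at ht; omega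
  refine ⟨P, hPc, h8, hel, ?_, htP⟩
  obtain ⟨k, hk⟩ := E8Cent.seven_dvd_automizer hna h8 hel
  have h21 := E8Cent.card_automizer_dvd h8 hel
  rw [hk] at h21
  rcases (Nat.dvd_prime Nat.prime_three).1 (Nat.dvd_of_mul_dvd_mul_left (by norm_num : 0 < 7)
      (show 7 * k ∣ 7 * 3 from h21)) with rfl | rfl
  · exact absurd (Walter3.solvable_of_seven P h8 hel hk htP ht1) hns
  · exact hk

/-- One class of involutions. -/
theorem isConj_of_invol {P : Sylow 2 G} [IsMulCommutative (P : Subgroup G)]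
    (h8 : Nat.card (P : Subgroup G) = 8) (hel : IsElementaryAbelian 2 (P : Subgroup G))
    (h21 : Nat.card (E8Cent.automizer P) = 21) {t : G} (htP : t ∈ (P : Subgroup G)) (ht : t ≠ 1)
    {s : G} (hs : s * s = 1) (hs1 : s ≠ 1) : ∃ g : G, g * t * g⁻¹ = s := by
  haveI : Fact (Nat.Prime 2) := ⟨Nat.prime_two⟩
  obtain ⟨Q, hQ⟩ := (IsPGroup.of_card (n := 1) (by
    rw [Nat.card_zpowers, orderOf_eq_prime (by rw [sq, hs]) hs1, pow_one]) :
    IsPGroup 2 (zpowers s)).exists_le_sylow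
  obtain ⟨c, hc⟩ := MulAction.exists_smul_eq G Q P
  have hsP : c * s * c⁻¹ ∈ (P : Subgroup G) := by
    rw [← hc, Sylow.coe_subgroup_smul]
    exact ⟨s, hQ (mem_zpowers s), rfl⟩
  obtain ⟨a, ha⟩ := E8Cent.transitive_of_seven h8 hel (h21 ▸ by norm_num)
    (s := ⟨_, hsP⟩) (t := ⟨t, htP⟩)
    (fun e => hs1 (conj_eq_one_iff.1 (congrArg Subtype.val e))) (fun e => ht (congrArg Subtype.val e))
  obtain ⟨n, -, hn⟩ := (E8Cent.mem_automizer_iff P).1 a.2
  have h1 := hn ⟨t, htP⟩
  rw [show ((a : MulAut (P : Subgroup G)) ⟨t, htP⟩) = ⟨_, hsP⟩ from ha] at h1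
  refine ⟨c⁻¹ * n, ?_⟩
  calc c⁻¹ * n * t * (c⁻¹ * n)⁻¹ = c⁻¹ * (n * t * n⁻¹) * c := by group
    _ = c⁻¹ * (c * s * c⁻¹) * c := by rw [← h1]
    _ = s := by group

end Cfsg.Lib.CentMax
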