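import Cfsg.Agent.Lib.CentMax.InvertedOdd
import Cfsg.Agent.Lib.CentMax.AltFour
import Cfsg.Agent.Lib.CentMax.Setting
import Cfsg.Agent.Lib.Walter3.FieldSetup
import Cfsg.Agent.Lib.Walter3.Assembly
import Cfsg.Agent.Lib.J1Weak.JFacts
import Cfsg.Agent.Lib.Linear.SLBasic
import Cfsg.Agent.S0215
import Cfsg.Agent.S0251

/-!
# Maximality of an involution centralizer `2 × E` with `E` over `PSL₂(q)`

A proper overgroup has a trivial odd core, since `t` would invert it.  If `t` is not isolated in it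
then it contains the normalizer of the Sylow subgroup and is simple with the same involution
centralizer, so has the order of the whole group.
-/

set_option autoImplicit false
set_option linter.unusedSectionVars false
set_option linter.style.haveILetI false

namespace Cfsg.Lib.CentMax

open Subgroup Cfsg Matrix
open Cfsg.Lib

universe u

theorem zmod_two_sq : ∀ a : Multiplicative (ZMod 2), a * a = 1 := by decide

theorem zmod_two_cases : ∀ a b : Multiplicative (ZMod 2), b ≠ 1 → a = 1 ∨ a = b := by decide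

theorem zmod_two_ne : Multiplicative.ofAdd (1 : ZMod 2) ≠ 1 := by decide

theorem zmod_two_mul : ∀ a b : Multiplicative (ZMod 2),
    (a = 1 → a * b = b) ∧ (b = 1 → a * b = a) ∧ (a ≠ 1 → b ≠ 1 → a * b = 1) := by decide

variable {G : Type u} [Group G] [Finite G]

/-- Centralizers of conjugate elements. -/
def centConj {g t s : G} (h : g * t * g⁻¹ = s) :
    centralizer ({s} : Set G) ≃* centralizer ({t} : Set G) where
  toFun c := ⟨g⁻¹ * c * g, mem_centralizer_singleton_iff.2 (by
    have hc : (c : G) * s = s * c := mem_centralizer_singleton_iff.1 c.2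
    have hs : g⁻¹ * s * g = t := by rw [← h]; group
    calc g⁻¹ * (c : G) * g * t = g⁻¹ * ((c : G) * s) * g := by rw [← hs]; group
      _ = g⁻¹ * (s * c) * g := by rw [hc]
      _ = t * (g⁻¹ * c * g) := by rw [← hs]; group)⟩
  invFun c := ⟨g * c * g⁻¹, mem_centralizer_singleton_iff.2 (by
    have hc : (c : G) * t = t * c := mem_centralizer_singleton_iff.1 c.2
    rw [← h]
    calc g * (c : G) * g⁻¹ * (g * t * g⁻¹) = g * ((c : G) * t) * g⁻¹ := by group
      _ = g * t * g⁻¹ * (g * c * g⁻¹) := by rw [hc]; group)⟩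
  left_inv c := Subtype.ext (by show g * (g⁻¹ * (c : G) * g) * g⁻¹ = c; group)
  right_inv c := Subtype.ext (by show g⁻¹ * (g * (c : G) * g⁻¹) * g = c; group)
  map_mul' a b := Subtype.ext (by
    show g⁻¹ * ((a : G) * b) * g = g⁻¹ * a * g * (g⁻¹ * b * g)
    group)

variable [IsSimpleGroup G]

/-- Maximality, given the isomorphism type `2 × PSL₂(q)` of the centralizer. -/
theorem isCoatom_of_iso (hna : ¬ IsMulCommutative G) (P : Sylow 2 G) [IsMulCommutative (P : Subgroup G)]
    (h8 : Nat.card (P : Subgroup G) = 8) (hel : IsElementaryAbelian 2 (P : Subgroup G))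
    (h21 : Nat.card (E8Cent.automizer P) = 21) {t : G} (ht : orderOf t = 2)
    (htP : t ∈ (P : Subgroup G)) (hO : oddCore ↥(centralizer ({t} : Set G)) = ⊥)
    {F : Type} [Field F] [Fintype F] (h38 : Fintype.card F % 8 = 3 ∨ Fintype.card F % 8 = 5)
    (h5 : 5 ≤ Fintype.card F)
    (e : centralizer ({t} : Set G) ≃* Multiplicative (ZMod 2) × ProjectiveSpecialLinearGroup (Fin 2) F) :
    IsCoatom (centralizer ({t} : Set G)) := by
  classical
  haveI : Fact (Nat.Prime 2) := ⟨Nat.prime_two⟩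
  haveI hsimp : IsSimpleGroup (ProjectiveSpecialLinearGroup (Fin 2) F) :=
    Cfsg.Lib.Linear.PSL_simple 2 le_rfl fun _ => by rw [Nat.card_eq_fintype_card]; omega
  set C := centralizer ({t} : Set G) with hC
  have ht1 : t ≠ 1 := fun h => by rw [h, orderOf_one] at ht; omega
  have htt : t * t = 1 := by rw [← sq, ← ht, pow_orderOf_eq_one]
  have hcomm : ∀ x ∈ (P : Subgroup G), ∀ y ∈ (P : Subgroup G), x * y = y * x := fun x hx y hy =>
    AbTwo.comm_of_mem ‹_› hx hy
  have hPC : (P : Subgroup G) ≤ C := fun x hx => mem_centralizer_singleton_iff.2 (hcomm x hx t htP)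
  constructor
  · intro htop
    have hz : t ∈ center G := mem_center_iff.2 fun g =>
      (mem_centralizer_singleton_iff.1 (show g ∈ C from htop ▸ mem_top g))
    rcases IsSimpleGroup.eq_bot_or_eq_top_of_normal (center G) inferInstance with h | h
    · rw [h, mem_bot] at hz; exact ht1 hz
    · exact hna ⟨⟨fun a b => (mem_center_iff.1 (h ▸ mem_top b : b ∈ center G)) a⟩⟩
  intro M hCM
  by_contra hMtop
  have hle : C ≤ M := hCM.le
  have htM : t ∈ M := hle (hPC htP)
  set W : Subgroup G := (oddCore M).map M.subtype with hW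
  have hWodd : Odd (Nat.card W) := by
    rw [hW, Nat.card_congr ((oddCore M).equivMapOfInjective _ M.subtype_injective).toEquiv.symm]
    exact AbTwo.odd_oddCore
  have hWn : ∀ m ∈ M, ∀ w ∈ W, m * w * m⁻¹ ∈ W := by
    rintro m hm _ ⟨w, hw, rfl⟩
    exact ⟨⟨m, hm⟩ * w * ⟨m, hm⟩⁻¹, (inferInstance : (oddCore M).Normal).conj_mem w hw ⟨m, hm⟩, rfl⟩
  have hWC : ∀ w ∈ W, w * t = t * w → w = 1 := by
    intro w hw hwt
    set R : Subgroup C := W.subgroupOf C with hR
    haveI : R.Normal := ⟨fun x hx g => hWn g (hle g.2) x hx⟩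
    have hRo : R ≤ oddCore C := ZStar.le_oddCore inferInstance (hWodd.of_dvd_nat
      (by rw [← Nat.card_congr (R.equivMapOfInjective _ C.subtype_injective).toEquiv.symm]
          exact card_dvd_of_le (by rintro _ ⟨x, hx, rfl⟩; exact hx)))
    have hmem : (⟨w, mem_centralizer_singleton_iff.2 hwt⟩ : C) ∈ R := hw
    have h := hRo hmem
    rw [hO, mem_bot] at h
    exact congrArg Subtype.val h
  -- the odd core is trivial
  have hinv : ∀ w ∈ W, t * w * t⁻¹ = w⁻¹ := by
    let φ : W →* W :=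
      { toFun := fun x => ⟨t * x * t⁻¹, hWn t htM x x.2⟩
        map_one' := Subtype.ext (by simp)
        map_mul' := fun a b => Subtype.ext (by simp only [Subgroup.coe_mul]; group) }
    have hfp : MonoidHom.FixedPointFree φ := fun x hx => Subtype.ext (hWC x x.2
      (mul_inv_eq_iff_eq_mul.1 (congrArg Subtype.val hx : t * (x : G) * t⁻¹ = x)).symm)
    have hti : t⁻¹ = t := inv_eq_of_mul_eq_one_right htt
    have h := hfp.coe_eq_inv_of_involutive fun x => Subtype.ext (by
      show t * (t * x * t⁻¹) * t⁻¹ = x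
      calc t * (t * (x : G) * t⁻¹) * t⁻¹ = (t * t) * x * (t⁻¹ * t⁻¹) := by group
        _ = x := by rw [hti, htt, one_mul, mul_one])
    exact fun w hw => congrArg Subtype.val (congrFun h ⟨w, hw⟩)
  have hWs : ∀ s ∈ (P : Subgroup G), s ≠ 1 → ∀ w ∈ W, w * s = s * w → w = 1 := by
    intro s hsP hs1 w hw hws
    obtain ⟨g, hg⟩ := isConj_of_invol h8 hel h21 htP ht1 (s := s)
      (by rw [← pow_two]; exact hel.2 s hsP) hs1
    set es : centralizer ({s} : Set G) ≃*
      Multiplicative (ZMod 2) × ProjectiveSpecialLinearGroup (Fin 2) F := (centConj hg).trans e with hes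
    set pr : centralizer ({s} : Set G) →* ProjectiveSpecialLinearGroup (Fin 2) F :=
      (MonoidHom.snd _ _).comp es.toMonoidHom with hpr
    set X : Subgroup (centralizer ({s} : Set G)) := W.subgroupOf _ with hX
    have htS : t ∈ centralizer ({s} : Set G) :=
      mem_centralizer_singleton_iff.2 (hcomm t htP s hsP)
    have hinj : ∀ x ∈ X, pr x = 1 → x = 1 := by
      intro x hx hpx
      have h2 : (es x) * (es x) = 1 := Prod.ext
        (zmod_two_sq _)
        (by show (es x).2 * (es x).2 = 1; rw [show (es x).2 = 1 from hpx, one_mul])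
      rw [← map_mul, es.map_eq_one_iff] at h2
      rcases (Nat.dvd_prime Nat.prime_two).1 (orderOf_dvd_of_pow_eq_one (x := (x : G))
        (by rw [pow_two, ← Subgroup.coe_mul, h2, OneMemClass.coe_one])) with h | h
      · exact Subtype.ext (orderOf_eq_one_iff.1 h)
      · have h6 : Odd (orderOf (x : G)) := hWodd.of_dvd_nat (W.orderOf_dvd_natCard hx)
        rw [h] at h6; exact absurd h6 (by decide)
    by_cases hz : pr ⟨t, htS⟩ = 1
    · -- `t` is central in `C(s)`
      have hc : (⟨w, mem_centralizer_singleton_iff.2 hws⟩ : centralizer ({s} : Set G)) * ⟨t, htS⟩ =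
          ⟨t, htS⟩ * ⟨w, mem_centralizer_singleton_iff.2 hws⟩ := es.injective (Prod.ext (by
          rw [map_mul, map_mul]; exact mul_comm _ _) (by
          rw [map_mul, map_mul]
          show (es _).2 * (es ⟨t, htS⟩).2 = (es ⟨t, htS⟩).2 * (es _).2
          rw [show (es ⟨t, htS⟩).2 = 1 from hz, mul_one, one_mul]))
      exact hWC w hw (congrArg Subtype.val hc)
    have hXbot : X.map pr = ⊥ := by
      refine eq_bot_of_psl h38 h5 (MulEquiv.refl _) (z := pr ⟨t, htS⟩) ?_ hz _ ?_ ?_ ?_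
      · rw [← map_mul, show (⟨t, htS⟩ : centralizer ({s} : Set G)) * ⟨t, htS⟩ = 1 from
          Subtype.ext htt, map_one]
      · refine hWodd.of_dvd_nat ((card_map_dvd X pr).trans ?_)
        rw [Nat.card_congr (X.equivMapOfInjective _ (subtype_injective _)).toEquiv]
        exact card_dvd_of_le (by rintro _ ⟨x, hx, rfl⟩; exact hx)
      · rintro _ ⟨x, hx, rfl⟩
        rw [← map_inv, ← map_mul, ← map_mul, ← map_inv]
        exact congrArg pr (Subtype.ext (hinv x hx))
      · rintro a ha _ ⟨x, hx, rfl⟩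
        set c := es.symm (1, a) with hcdef
        have hpc : pr c = a := by simp [hpr, hcdef]
        have hct : c * ⟨t, htS⟩ = ⟨t, htS⟩ * c := es.injective (Prod.ext (by
          rw [map_mul, map_mul]; exact mul_comm _ _) (by
          rw [map_mul, map_mul]
          show pr c * pr ⟨t, htS⟩ = pr ⟨t, htS⟩ * pr c
          rw [hpc]; exact ha))
        have hcC : (c : G) ∈ M := hle (mem_centralizer_singleton_iff.2 (congrArg Subtype.val hct))
        exact ⟨c * x * c⁻¹, hWn c hcC x hx, by rw [map_mul, map_mul, map_inv, hpc]⟩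
    have hxX : (⟨w, mem_centralizer_singleton_iff.2 hws⟩ : centralizer ({s} : Set G)) ∈ X := hw
    have hpw := mem_map_of_mem pr hxX
    rw [hXbot, mem_bot] at hpw
    exact congrArg Subtype.val (hinj _ hxX hpw)
  have hW1 : W = ⊥ := by
    obtain ⟨s, hsP, hst⟩ : ∃ s ∈ (P : Subgroup G), s ∉ zpowers t := by
      by_contra h
      push Not at h
      have h1 := card_dvd_of_le (show (P : Subgroup G) ≤ zpowers t from h)
      rw [h8, Nat.card_zpowers, ht] at h1
      exact absurd (Nat.le_of_dvd two_pos h1) (by norm_num)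
    have hs1 : s ≠ 1 := fun h => hst (h ▸ one_mem _)
    have hts1 : t * s ≠ 1 := fun h => hst (by
      rw [← inv_eq_of_mul_eq_one_right h]; exact inv_mem (mem_zpowers t))
    have hflip : ∀ v ∈ (P : Subgroup G), v ≠ 1 → ∀ w ∈ W, v * w * v⁻¹ = w⁻¹ := by
      intro v hv hv1
      let φ : W →* W :=
        { toFun := fun x => ⟨v * x * v⁻¹, hWn v (hle (hPC hv)) x x.2⟩
          map_one' := Subtype.ext (by simp)
          map_mul' := fun a b => Subtype.ext (by simp only [Subgroup.coe_mul]; group) }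
      have hfp : MonoidHom.FixedPointFree φ := fun x hx => Subtype.ext (hWs v hv hv1 x x.2
        (mul_inv_eq_iff_eq_mul.1 (congrArg Subtype.val hx : v * (x : G) * v⁻¹ = x)).symm)
      have hvv : v * v = 1 := by rw [← pow_two]; exact hel.2 v hv
      have hvi : v⁻¹ = v := inv_eq_of_mul_eq_one_right hvv
      have h := hfp.coe_eq_inv_of_involutive fun x => Subtype.ext (by
        show v * (v * x * v⁻¹) * v⁻¹ = x
        calc v * (v * (x : G) * v⁻¹) * v⁻¹ = (v * v) * x * (v⁻¹ * v⁻¹) := by group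
          _ = x := by rw [hvi, hvv, one_mul, mul_one])
      exact fun w hw => congrArg Subtype.val (congrFun h ⟨w, hw⟩)
    refine (eq_bot_iff_forall _).2 fun w hw => hWs (t * s) (mul_mem htP hsP) hts1 w hw ?_
    have h1 : t * s * w * (t * s)⁻¹ = w := by
      calc t * s * w * (t * s)⁻¹ = t * (s * w * s⁻¹) * t⁻¹ := by group
        _ = (t * w * t⁻¹)⁻¹ := by rw [hflip s hsP hs1 w hw]; group
        _ = w := by rw [hinv w hw, inv_inv]
    exact (mul_inv_eq_iff_eq_mul.1 h1).symm
  have hMO : oddCore M = ⊥ := (map_eq_bot_iff_of_injective _ M.subtype_injective).1 hW1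
  set PM : Sylow 2 M := P.subtype (hPC.trans hle) with hPM
  haveI hPMc : IsMulCommutative (PM : Subgroup M) :=
    ⟨⟨fun a b => Subtype.ext (Subtype.ext (hcomm _ a.2 _ b.2))⟩⟩
  -- `t` is fused in `M`
  obtain ⟨m, hm, hmP, hmne⟩ : ∃ m ∈ M, m * t * m⁻¹ ∈ (P : Subgroup G) ∧ m * t * m⁻¹ ≠ t := by
    by_contra hno
    push Not at hno
    obtain ⟨N, hN, hNodd, hNc⟩ := Cfsg.Agent.S0215.result PM (⟨t, htM⟩ : M)
      (by rw [orderOf_mk, ht]) htP
      (fun g hg => Subtype.ext (hno g g.2 hg))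
    haveI := hN
    have hN1 : N ≤ oddCore M := ZStar.le_oddCore inferInstance hNodd
    rw [hMO, le_bot_iff] at hN1
    refine hCM.not_ge fun g hg => mem_centralizer_singleton_iff.2 ?_
    have h := hNc ⟨g, hg⟩
    rw [hN1, mem_bot] at h
    have h2 : t * g * t⁻¹ * g⁻¹ = 1 := congrArg Subtype.val h
    calc g * t = (t * g * t⁻¹ * g⁻¹) * (g * t) := by rw [h2, one_mul]
      _ = t * g := by group
  -- the normalizer of the Sylow subgroup lies in `M`
  set f := (P : Subgroup G).normalizerMonoidHom with hf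
  set St : Subgroup (E8Cent.automizer P) :=
    MulAction.stabilizer (E8Cent.automizer P) (⟨t, htP⟩ : (P : Subgroup G)) with hSt
  have ht1' : (⟨t, htP⟩ : (P : Subgroup G)) ≠ 1 := fun h => ht1 (congrArg Subtype.val h)
  have hSt3 : Nat.card St = 3 := E8Cent.card_stabilizer_of_21 h8 hel h21 ht1'
  have key : ∀ K : Subgroup G, C ≤ K →
      (∃ n ∈ normalizer ((P : Subgroup G) : Set G), n ∈ K ∧ n * t * n⁻¹ ≠ t) →
      normalizer ((P : Subgroup G) : Set G) ≤ K := by
    rintro K hCK ⟨n₀, hn₀, hn₀K, hn₀t⟩ n hn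
    let HK : Subgroup (E8Cent.automizer P) :=
      ((K.subgroupOf (normalizer ((P : Subgroup G) : Set G))).map f).subgroupOf (E8Cent.automizer P)
    have hfix : St ≤ HK := by
      intro a ha
      obtain ⟨k, hk⟩ := a.2
      refine ⟨k, hCK (mem_centralizer_singleton_iff.2 ?_), hk⟩
      have h1 : ((a : MulAut (P : Subgroup G)) ⟨t, htP⟩) = ⟨t, htP⟩ := ha
      rw [← hk] at h1
      have h2 : (k : G) * t * (k : G)⁻¹ = t := congrArg Subtype.val h1
      exact mul_inv_eq_iff_eq_mul.1 h2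
    have hne : ¬ HK ≤ St := fun h => hn₀t (by
      have h1 : ((f ⟨n₀, hn₀⟩) ⟨t, htP⟩) = ⟨t, htP⟩ :=
        h (x := ⟨f ⟨n₀, hn₀⟩, ⟨_, rfl⟩⟩) ⟨⟨n₀, hn₀⟩, hn₀K, rfl⟩
      exact congrArg Subtype.val h1)
    have hcard : Nat.card HK = 21 := by
      have h1 : 3 ∣ Nat.card HK := hSt3 ▸ card_dvd_of_le hfix
      have h2 : Nat.card HK ∣ 21 := h21 ▸ card_subgroup_dvd_card HK
      have h3 : Nat.card HK ≠ 3 := fun h => hne (le_of_eq (eq_of_le_of_card_ge hfix (by omega)).symm)
      obtain ⟨a, ha⟩ := h1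
      rw [ha] at h2 h3 ⊢
      rcases (Nat.dvd_prime (by norm_num : Nat.Prime 7)).1 (Nat.dvd_of_mul_dvd_mul_left
        (by norm_num : 0 < 3) (show 3 * a ∣ 3 * 7 from h2)) with rfl | rfl
      · exact absurd rfl h3
      · rfl
    have htop : HK = ⊤ := eq_top_of_card_eq _ (hcard.trans h21.symm)
    obtain ⟨k, hkK, hk⟩ : (⟨f ⟨n, hn⟩, ⟨_, rfl⟩⟩ : E8Cent.automizer P) ∈ HK := htop ▸ mem_top _
    have hk' : f k = f ⟨n, hn⟩ := hk
    have hkn : ((k : G)⁻¹ * n) * t = t * ((k : G)⁻¹ * n) := by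
      have h1 : (k : G) * t * (k : G)⁻¹ = n * t * n⁻¹ :=
        congrArg (fun a : MulAut (P : Subgroup G) => ((a ⟨t, htP⟩ : (P : Subgroup G)) : G)) hk'
      calc (k : G)⁻¹ * n * t = (k : G)⁻¹ * (n * t * n⁻¹) * n := by group
        _ = t * ((k : G)⁻¹ * n) := by rw [← h1]; group
    have h3 : (k : G) * ((k : G)⁻¹ * n) ∈ K :=
      K.mul_mem hkK (hCK (mem_centralizer_singleton_iff.2 hkn))
    rwa [mul_inv_cancel_left] at h3
  obtain ⟨⟨n₁, hn₁M⟩, hn₁, hn₁e⟩ := Sylow.conj_eq_normalizer_conj_of_mem PM (⟨t, htM⟩ : M)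
    (⟨m, hm⟩⁻¹ : M) htP (show (((⟨m, hm⟩ : M)⁻¹)⁻¹ * ⟨t, htM⟩ * ⟨m, hm⟩⁻¹ : M) ∈ (PM : Subgroup M) by
      rw [inv_inv]; exact hmP)
  have hn₁t : n₁⁻¹ * t * n₁ = m * t * m⁻¹ := by
    have := congrArg Subtype.val hn₁e
    simpa using this.symm
  have hn₁N : n₁⁻¹ ∈ normalizer ((P : Subgroup G) : Set G) := by
    refine inv_mem (mem_normalizer_iff.2 fun x => ⟨fun hx => ?_, fun hx => ?_⟩)
    · exact (mem_normalizer_iff.1 hn₁ ⟨x, hle (hPC hx)⟩).1 hx
    · have hxM : x ∈ M := by
        have := M.mul_mem (M.mul_mem (M.inv_mem hn₁M) (hle (hPC hx))) hn₁M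
        simpa [mul_assoc] using this
      exact (mem_normalizer_iff.1 hn₁ ⟨x, hxM⟩).2 hx
  have hNM : normalizer ((P : Subgroup G) : Set G) ≤ M :=
    key M hle ⟨n₁⁻¹, hn₁N, M.inv_mem hn₁M, by rw [inv_inv, hn₁t]; exact hmne⟩
  -- `M` is simple
  haveI : Nontrivial M := ⟨⟨⟨t, htM⟩, 1, fun h => ht1 (congrArg Subtype.val h)⟩⟩
  haveI hMsimple : IsSimpleGroup M := by
    refine ⟨fun N hN => ?_⟩
    haveI := hN
    by_cases hNb : N = ⊥
    · exact Or.inl hNb
    right
    have heven : ¬ Odd (Nat.card N) := fun h => hNb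
      (le_bot_iff.1 (hMO ▸ ZStar.le_oddCore inferInstance h))
    obtain ⟨x, hx⟩ := exists_prime_orderOf_dvd_card' (G := N) 2
      (Nat.even_iff.1 (Nat.not_odd_iff_even.1 heven) |> Nat.dvd_of_mod_eq_zero)
    rw [← orderOf_coe] at hx
    obtain ⟨Q, hQ⟩ := (IsPGroup.of_card (n := 1) (by rw [Nat.card_zpowers, hx, pow_one]) :
      IsPGroup 2 (zpowers ((x : N) : M))).exists_le_sylow
    obtain ⟨c, hc⟩ := MulAction.exists_smul_eq M Q PM
    set x' : M := c * (x : M) * c⁻¹ with hx'
    have hx'P : (x' : G) ∈ (P : Subgroup G) := by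
      have : x' ∈ (PM : Subgroup M) := by
        rw [← hc, Sylow.coe_subgroup_smul]
        exact ⟨_, hQ (mem_zpowers _), rfl⟩
      exact this
    have hx'N : x' ∈ N := hN.conj_mem _ x.2 c
    have hx'1 : (x' : G) ≠ 1 := fun h => by
      have : x' = 1 := Subtype.ext h
      rw [hx', conj_eq_one_iff] at this
      rw [this, orderOf_one] at hx; omega
    have hPN : ∀ s ∈ (P : Subgroup G), ∀ hsM : s ∈ M, (⟨s, hsM⟩ : M) ∈ N := by
      intro s hs hsM
      by_cases hs1 : s = 1
      · subst hs1; exact one_mem _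
      obtain ⟨a, ha⟩ := E8Cent.transitive_of_seven h8 hel (h21 ▸ by norm_num)
        (s := ⟨s, hs⟩) (t := ⟨_, hx'P⟩) (fun e => hs1 (congrArg Subtype.val e))
        (fun e => hx'1 (congrArg Subtype.val e))
      obtain ⟨n, hn, hna'⟩ := (E8Cent.mem_automizer_iff P).1 a.2
      have h1 := hna' ⟨_, hx'P⟩
      rw [show ((a : MulAut (P : Subgroup G)) ⟨_, hx'P⟩) = ⟨s, hs⟩ from ha] at h1
      rw [show (⟨s, hsM⟩ : M) = ⟨n, hNM hn⟩ * x' * ⟨n, hNM hn⟩⁻¹ from Subtype.ext h1]
      exact hN.conj_mem _ hx'N _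
    -- `N` contains the centralizer
    set H : Subgroup C := (N.map M.subtype).subgroupOf C with hH
    haveI : H.Normal := ⟨fun y hy g => by
      obtain ⟨y', hy', he⟩ := hy
      exact ⟨⟨g, hle g.2⟩ * y' * ⟨g, hle g.2⟩⁻¹, hN.conj_mem _ hy' _, by
        show (g : G) * (y' : G) * (g : G)⁻¹ = g * y * (g : G)⁻¹
        rw [show ((y' : M) : G) = (y : G) from he]⟩⟩
    have hPH : ∀ s (hs : s ∈ (P : Subgroup G)), (⟨s, hPC hs⟩ : C) ∈ H := fun s hs =>
      ⟨⟨s, hle (hPC hs)⟩, hPN s hs _, rfl⟩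
    set pr : C →* ProjectiveSpecialLinearGroup (Fin 2) F :=
      (MonoidHom.snd _ _).comp e.toMonoidHom with hpr
    have hprsurj : Function.Surjective pr := fun a => ⟨e.symm (1, a), by simp [hpr]⟩
    haveI : (H.map pr).Normal := Subgroup.Normal.map inferInstance pr hprsurj
    have hte : pr ⟨t, hPC htP⟩ = 1 := by
      rcases IsSimpleGroup.eq_bot_or_eq_top_of_normal
        (center (ProjectiveSpecialLinearGroup (Fin 2) F)) inferInstance with h | h
      · refine mem_bot.1 (h ▸ mem_center_iff.2 fun a => ?_)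
        obtain ⟨c, rfl⟩ := hprsurj a
        rw [← map_mul, ← map_mul]
        exact congrArg pr (Subtype.ext (mem_centralizer_singleton_iff.1 c.2))
      · exfalso
        have hns : ¬ IsMulCommutative (ProjectiveSpecialLinearGroup (Fin 2) F) := fun hc => by
          -- otherwise the stabilizer of `t` in the automizer would be trivial
          have hCc : ∀ x y : C, x * y = y * x := fun x y => e.injective (Prod.ext
            (by rw [map_mul, map_mul]; exact mul_comm _ _)
            (by rw [map_mul, map_mul]; exact hc.is_comm.comm _ _))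
          have hbot : St = ⊥ := by
            refine (eq_bot_iff_forall _).2 fun a ha => ?_
            obtain ⟨k, hk⟩ := a.2
            have hkt : (k : G) * t * (k : G)⁻¹ = t := congrArg Subtype.val
              (show f k ⟨t, htP⟩ = ⟨t, htP⟩ by rw [hk]; exact ha)
            have hkC : (k : G) ∈ C :=
              mem_centralizer_singleton_iff.2 (mul_inv_eq_iff_eq_mul.1 hkt)
            refine Subtype.ext (MulEquiv.ext fun s => Subtype.ext ?_)
            rw [← hk]
            show (k : G) * s * (k : G)⁻¹ = s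
            rw [show (k : G) * s = s * k from congrArg Subtype.val (hCc ⟨k, hkC⟩ ⟨s, hPC s.2⟩),
              mul_inv_cancel_right]
          rw [hbot, card_bot] at hSt3
          omega
        exact hns ⟨⟨fun a b => (mem_center_iff.1 (h ▸ mem_top b :
          b ∈ center (ProjectiveSpecialLinearGroup (Fin 2) F))) a⟩⟩
    have hker : ∀ c : C, pr c = 1 → c ∈ H := by
      intro c hc
      have h1 : (e c).1 = 1 ∨ (e c).1 = (e ⟨t, hPC htP⟩).1 := by
        have h0 : (e ⟨t, hPC htP⟩).1 ≠ 1 := fun h => ht1 (congrArg Subtype.val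
          ((e.map_eq_one_iff).1 (Prod.ext h hte)))
        exact zmod_two_cases _ _ h0
      rcases h1 with h | h
      · rw [show c = 1 from e.map_eq_one_iff.1 (Prod.ext h hc)]; exact one_mem _
      · rw [show c = ⟨t, hPC htP⟩ from e.injective (Prod.ext h (hc.trans hte.symm))]
        exact hPH t htP
    have hHtop : H.map pr = ⊤ := by
      refine (IsSimpleGroup.eq_bot_or_eq_top_of_normal _ inferInstance).resolve_left fun hb => ?_
      -- otherwise the Sylow subgroup lies in the kernel, of order two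
      have hall : ∀ s ∈ (P : Subgroup G), s ∈ zpowers t := by
        intro s hs
        have h1 : pr ⟨s, hPC hs⟩ = 1 := mem_bot.1 (hb ▸ mem_map_of_mem pr (hPH s hs))
        have h0 : (e ⟨t, hPC htP⟩).1 ≠ 1 := fun h => ht1 (congrArg Subtype.val
          ((e.map_eq_one_iff).1 (Prod.ext h hte)))
        rcases zmod_two_cases (e ⟨s, hPC hs⟩).1 _ h0 with h | h
        · have : s = 1 := congrArg Subtype.val (e.map_eq_one_iff.1 (Prod.ext h h1))
          rw [this]; exact one_mem _
        · have : s = t := congrArg Subtype.val (e.injective (Prod.ext h (h1.trans hte.symm)) :)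
          rw [this]; exact mem_zpowers t
      have h1 := card_dvd_of_le (show (P : Subgroup G) ≤ zpowers t from hall)
      rw [h8, Nat.card_zpowers, ht] at h1
      exact absurd (Nat.le_of_dvd two_pos h1) (by norm_num)
    have hCN : C ≤ N.map M.subtype := by
      intro c hc
      obtain ⟨d, hd, hde⟩ : pr ⟨c, hc⟩ ∈ H.map pr := hHtop ▸ mem_top _
      have h1 : d⁻¹ * ⟨c, hc⟩ ∈ H := hker _ (by rw [map_mul, map_inv, hde, inv_mul_cancel])
      have h2 := H.mul_mem hd h1
      rw [mul_inv_cancel_left] at h2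
      exact h2
    have hNN : normalizer ((P : Subgroup G) : Set G) ≤ N.map M.subtype := by
      set N' := N.map M.subtype
      refine key N' hCN ?_
      by_contra hno
      push Not at hno
      -- the stabilizer would be normal
      have hfix : ∀ a : St, ∀ b : E8Cent.automizer P, b⁻¹ * (a : E8Cent.automizer P) * b ∈ St := by
        rintro ⟨⟨_, k, rfl⟩, ha⟩ ⟨_, n, rfl⟩
        have hkC : (k : G) * t * (k : G)⁻¹ = t := congrArg Subtype.val
          (show f k ⟨t, htP⟩ = ⟨t, htP⟩ from ha)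
        obtain ⟨k', hk', hke⟩ := hCN (mem_centralizer_singleton_iff.2 (mul_inv_eq_iff_eq_mul.1 hkC) :
          (k : G) ∈ C)
        have hconj : (n : G)⁻¹ * k * n ∈ N' :=
          ⟨⟨n, hNM n.2⟩⁻¹ * k' * ⟨n, hNM n.2⟩, by
            have := hN.conj_mem k' hk' (⟨n, hNM n.2⟩⁻¹ : M)
            rwa [inv_inv] at this, by
            show (n : G)⁻¹ * (k' : G) * n = (n : G)⁻¹ * k * n
            rw [show ((k' : M) : G) = (k : G) from hke]⟩
        have h1 := hno _ (mul_mem (mul_mem (inv_mem n.2) k.2) n.2) hconj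
        show ((f n)⁻¹ * f k * f n) ⟨t, htP⟩ = ⟨t, htP⟩
        rw [← map_inv, ← map_mul, ← map_mul]
        exact Subtype.ext h1
      obtain ⟨a, hane⟩ : ∃ a : St, a ≠ 1 := by
        haveI : Nontrivial St := Finite.one_lt_card_iff_nontrivial.1 (by rw [hSt3]; norm_num)
        exact exists_ne 1
      refine hane (Subtype.ext (Subtype.ext (MulEquiv.ext fun s => ?_)))
      by_cases hs : s = 1
      · rw [hs]; exact map_one _
      obtain ⟨b, hb⟩ := E8Cent.transitive_of_seven h8 hel (h21 ▸ by norm_num) hs ht1'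
      have hst : (b⁻¹ * (a : E8Cent.automizer P) * b) • (⟨t, htP⟩ : (P : Subgroup G)) = ⟨t, htP⟩ :=
        hfix a b
      rw [mul_smul, mul_smul, inv_smul_eq_iff, hb] at hst
      exact hst
    have hPMN : (PM : Subgroup M) ≤ N := fun y hy => hPN _ hy y.2
    have hF := Sylow.normalizer_sup_eq_top' (N := N) PM hPMN
    rw [eq_top_iff, ← hF]
    refine sup_le (fun y hy => ?_) le_rfl
    have hy' : (y : G) ∈ normalizer ((P : Subgroup G) : Set G) := by
      refine mem_normalizer_iff.2 fun x => ⟨fun hx => ?_, fun hx => ?_⟩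
      · exact (mem_normalizer_iff.1 hy ⟨x, hle (hPC hx)⟩).1 hx
      · have hxM : x ∈ M := by
          have := M.mul_mem (M.mul_mem (M.inv_mem y.2) (hle (hPC hx))) y.2
          simpa [mul_assoc] using this
        exact (mem_normalizer_iff.1 hy ⟨x, hxM⟩).2 hx
    obtain ⟨y', hy'N, hye⟩ := hNN hy'
    rwa [show y' = y from Subtype.ext hye] at hy'N
  -- the order of `M`
  have habG : ∀ Q : Sylow 2 G, ∀ a b : Q, a * b = b * a := fun Q a b =>
    (sylow_comm P inferInstance Q).is_comm.comm a b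
  have habM : ∀ Q : Sylow 2 M, ∀ a b : Q, a * b = b * a := fun Q a b =>
    (sylow_comm PM inferInstance Q).is_comm.comm a b
  let cM : centralizer ({(⟨t, htM⟩ : M)} : Set M) ≃* C :=
    { toFun := fun c => ⟨(c : M), mem_centralizer_singleton_iff.2
        (congrArg Subtype.val (mem_centralizer_singleton_iff.1 c.2))⟩
      invFun := fun c => ⟨⟨c, hle c.2⟩, mem_centralizer_singleton_iff.2
        (Subtype.ext (mem_centralizer_singleton_iff.1 c.2))⟩
      left_inv := fun _ => rfl
      right_inv := fun _ => rfl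
      map_mul' := fun _ _ => rfl }
  have hcard : Nat.card M = Nat.card G := by
    rcases Walter8.main habG (by omega) t ht e with ⟨a, ha, hFa, hG⟩ | ⟨h45, hG⟩ <;>
      rcases Walter8.main habM (by omega) (⟨t, htM⟩ : M) (by rw [orderOf_mk, ht]) (cM.trans e) with
        ⟨b, hb, hFb, hM⟩ | ⟨h45', hM⟩
    · rw [hG, hM, ← hFa, ← hFb]
    · exfalso
      have : 3 ^ 3 ≤ 3 ^ (2 * a + 1) := Nat.pow_le_pow_right (by norm_num) (by omega)
      omega
    · exfalso
      have : 3 ^ 3 ≤ 3 ^ (2 * b + 1) := Nat.pow_le_pow_right (by norm_num) (by omega)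
      omega
    · rw [hG.2, hM.2]
  exact hMtop (eq_top_of_card_eq M hcard)

/-- **Maximality of the centralizer**, given the clause on field parts. -/
theorem isCoatom_of_fieldClause (hna : ¬ IsMulCommutative G) (S : Sylow 2 G)
    (hS : IsMulCommutative (S : Subgroup G)) (t : G) (ht : orderOf t = 2) (E E₀ : Subgroup G)
    (hprod : Cfsg.IsInternalDirectProduct (zpowers t) E (centralizer ({t} : Set G)))
    (hE₀E : E₀ ≤ E) (hE₀n : (E₀.subgroupOf E).Normal)
    (hE₀ : ∃ (F : Type) (_ : Field F) (_ : Fintype F), Odd (Fintype.card F) ∧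
      Nonempty (E₀ ≃* ProjectiveSpecialLinearGroup (Fin 2) F))
    (hCE : E ⊓ centralizer (E₀ : Set G) = ⊥) (hField : Walter3.FieldClause G) :
    IsCoatom (centralizer ({t} : Set G)) := by
  classical
  haveI : Fact (Nat.Prime 2) := ⟨Nat.prime_two⟩
  obtain ⟨F, i, j, hFodd, ⟨ψ⟩⟩ := hE₀
  obtain ⟨htC, hEC, htE, hdisj, hsup⟩ := hprod
  set C := centralizer ({t} : Set G) with hC
  have htE' : ∀ b ∈ E, t * b = b * t := fun b hb => htE t (mem_zpowers t) b hb
  have htne : t ∉ E := fun h => by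
    have : t = 1 := mem_bot.1 (hdisj ▸ (⟨mem_zpowers t, h⟩ : t ∈ zpowers t ⊓ E))
    rw [this, orderOf_one] at ht; omega
  have hdec : ∀ c ∈ C, ∃ a ∈ zpowers t, ∃ b ∈ E, a * b = c := fun c hc => by
    have h1 : zpowers t ≤ normalizer (E : Set G) := by
      rw [zpowers_le]
      exact Cfsg.Lib.Fusion.le_normalizer_of_conj_mem fun x hx => by
        rw [htE' x hx, mul_inv_cancel_right]; exact hx
    exact (Cfsg.Lib.Core.mem_sup_of_le_normalizer h1).1 (hsup ▸ hc)
  have hzp : ∀ a ∈ zpowers t, a = 1 ∨ a = t := fun a ha => by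
    rw [(isOfFinOrder_of_finite t).mem_zpowers_iff_mem_range_orderOf, ht] at ha
    obtain ⟨k, hk, rfl⟩ := Finset.mem_image.1 ha
    rw [Finset.mem_range] at hk
    interval_cases k <;> simp
  have hq2 : 3 ≤ Fintype.card F := by
    have h1 := Fintype.one_lt_card (α := F)
    rw [Nat.odd_iff] at hFodd
    omega
  by_cases h3 : Fintype.card F = 3
  · -- `2 × A₄`
    exfalso
    obtain ⟨a4⟩ := Cfsg.Agent.S0251.result (F := F) h3
    haveI := hE₀n
    have htop := eq_top_of_alt_four (E := E) (E₀.subgroupOf E)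
      ((a4.symm.trans ψ.symm).trans (subgroupOfEquivOfLe hE₀E).symm)
      (by
        rw [eq_bot_iff]
        intro x hx
        refine mem_bot.2 (Subtype.ext (mem_bot.1 (hCE ▸ (⟨x.2, mem_centralizer_iff.2 fun y hy => ?_⟩ :
          (x : G) ∈ E ⊓ centralizer (E₀ : Set G)))))
        exact congrArg Subtype.val (mem_centralizer_iff.1 hx ⟨y, hE₀E hy⟩ hy))
      (fun Q hQ a ha b hb => by
        obtain ⟨R, hR⟩ := (hQ.map E.subtype).exists_le_sylow
        exact Subtype.ext (AbTwo.comm_of_mem (sylow_comm S hS R) (hR ⟨a, ha, rfl⟩) (hR ⟨b, hb, rfl⟩)))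
    have hEE : E₀ = E := le_antisymm hE₀E fun x hx => by
      have h : (⟨x, hx⟩ : E) ∈ E₀.subgroupOf E := htop ▸ mem_top _
      exact h
    subst hEE
    let tC : C := ⟨t, htC (mem_zpowers t)⟩
    have htC2 : tC * tC = 1 := Subtype.ext (show t * t = 1 by rw [← pow_two, ← ht, pow_orderOf_eq_one])
    let τ : Multiplicative (ZMod 2) →* C :=
      { toFun := fun a => if a = 1 then 1 else tC
        map_one' := if_pos rfl
        map_mul' := fun a b => by
          obtain ⟨h1, h2, h3⟩ := zmod_two_mul a b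
          by_cases ha : a = 1
          · simp [ha]
          by_cases hb : b = 1
          · simp [hb]
          simp [ha, hb, h3 ha hb, htC2] }
    let κ := a4.symm.trans ψ.symm
    let m : Multiplicative (ZMod 2) × alternatingGroup (Fin 4) →* C :=
      τ.noncommCoprod ((inclusion hEC).comp κ.toMonoidHom) fun a b => by
        show (if a = 1 then 1 else tC) * _ = _ * (if a = 1 then 1 else tC)
        split
        · rw [one_mul, mul_one]
        · exact Subtype.ext (htE' _ (κ b).2)
    have hmv : ∀ z, ((m z : C) : G) = (if z.1 = 1 then 1 else t) * ((κ z.2 : E₀) : G) := fun z => by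
      show Subtype.val (if z.1 = 1 then (1 : C) else tC) * ((κ z.2 : E₀) : G) = _
      split <;> rfl
    have hm : Function.Bijective m := by
      refine ⟨(injective_iff_map_eq_one m).2 fun z hz => ?_, fun c => ?_⟩
      · have h := hmv z
        rw [hz, OneMemClass.coe_one] at h
        by_cases h1 : z.1 = 1
        · rw [if_pos h1, one_mul] at h
          exact Prod.ext h1 (κ.map_eq_one_iff.1 (Subtype.ext h.symm))
        · rw [if_neg h1] at h
          exact absurd (eq_inv_of_mul_eq_one_left h.symm ▸ E₀.inv_mem (κ z.2).2) htne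
      · obtain ⟨a, ha, b, hb, hab⟩ := hdec c c.2
        rcases hzp a ha with rfl | rfl
        · exact ⟨(1, κ.symm ⟨b, hb⟩), Subtype.ext (by rw [hmv]; simpa using hab)⟩
        · refine ⟨(Multiplicative.ofAdd 1, κ.symm ⟨b, hb⟩), Subtype.ext ?_⟩
          rw [hmv, if_neg zmod_two_ne]
          simpa using hab
    exact Walter8.Three.false_of_four (fun Q a b => (sylow_comm S hS Q).is_comm.comm a b) t ht
      (MulEquiv.ofBijective m hm).symm
  -- the nonsolvable case
  have h5 : 5 ≤ Fintype.card F := by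
    rw [Nat.odd_iff] at hFodd; omega
  haveI hsimp : IsSimpleGroup (ProjectiveSpecialLinearGroup (Fin 2) F) :=
    Cfsg.Lib.Linear.PSL_simple 2 le_rfl fun _ => by rw [Nat.card_eq_fintype_card]; omega
  have hna0 : ¬ IsMulCommutative E₀ := fun hc => by
    have hle : E₀ ≤ E ⊓ centralizer (E₀ : Set G) := fun x hx =>
      ⟨hE₀E hx, mem_centralizer_iff.2 fun y hy => congrArg Subtype.val
        (hc.is_comm.comm (⟨y, hy⟩ : E₀) ⟨x, hx⟩)⟩
    rw [hCE, le_bot_iff] at hle
    haveI : Subsingleton E₀ := by rw [hle]; infer_instance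
    exact not_nontrivial E₀ ψ.toEquiv.nontrivial
  haveI : Nontrivial E₀ := ψ.toEquiv.nontrivial
  haveI hE0s : IsSimpleGroup E₀ :=
    IsSimpleGroup.isSimpleGroup_of_surjective ψ.symm.toMonoidHom ψ.symm.surjective
  have hns : ¬ Group.IsSolvable ↥C := fun h => hna0 ⟨⟨IsSimpleGroup.comm_iff_isSolvable.2
    (haveI := h; Group.isSolvable_of_isSolvable_injective (f := inclusion (hE₀E.trans hEC))
      (inclusion_injective _))⟩⟩
  obtain ⟨P, hPc, h8, hel, h21, htP⟩ := exists_setting hna S hS ht hns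
  haveI := hPc
  have ht1 : t ≠ 1 := fun h => by rw [h, orderOf_one] at ht; omega
  have hO : oddCore C = ⊥ := by
    set O := (oddCore C).map C.subtype with hOdef
    have hOodd : Odd (Nat.card O) := by
      rw [hOdef, Nat.card_congr ((oddCore C).equivMapOfInjective _ C.subtype_injective).toEquiv.symm]
      exact AbTwo.odd_oddCore
    have hOn : ∀ c ∈ C, ∀ o ∈ O, c * o * c⁻¹ ∈ O := by
      rintro c hc _ ⟨o, ho, rfl⟩
      exact ⟨⟨c, hc⟩ * o * ⟨c, hc⟩⁻¹, (inferInstance : (oddCore C).Normal).conj_mem o ho ⟨c, hc⟩, rfl⟩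
    have hE₀C : ∀ c ∈ C, ∀ y ∈ E₀, c * y * c⁻¹ ∈ E₀ := by
      intro c hc y hy
      obtain ⟨a, ha, b, hb, rfl⟩ := hdec c hc
      have h1 : b * y * b⁻¹ ∈ E₀ := hE₀n.conj_mem ⟨y, hE₀E hy⟩ hy ⟨b, hb⟩
      rw [show a * b * y * (a * b)⁻¹ = a * (b * y * b⁻¹) * a⁻¹ by group, htE a ha _ (hE₀E h1),
        mul_inv_cancel_right]
      exact h1
    haveI : (O.subgroupOf E₀).Normal := ⟨fun y hy g => hOn _ (hEC (hE₀E g.2)) _ hy⟩
    have hinter : O.subgroupOf E₀ = ⊥ := by
      refine (IsSimpleGroup.eq_bot_or_eq_top_of_normal _ inferInstance).resolve_right fun h => ?_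
      have hle : E₀ ≤ O := subgroupOf_eq_top.1 h
      exact hna0 ⟨⟨IsSimpleGroup.comm_iff_isSolvable.2
        (Cfsg.Agent.S0205.result (hOodd.of_dvd_nat (card_dvd_of_le hle)))⟩⟩
    refine (map_eq_bot_iff_of_injective _ C.subtype_injective).1 ((eq_bot_iff_forall _).2 fun o ho => ?_)
    have hoC : o ∈ C := map_subtype_le (oddCore C) ho
    obtain ⟨a, ha, b, hb, rfl⟩ := hdec o hoC
    have hb1 : b = 1 := by
      suffices hbc : b ∈ centralizer (E₀ : Set G) from
        mem_bot.1 (hCE ▸ (⟨hb, hbc⟩ : b ∈ E ⊓ centralizer (E₀ : Set G)))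
      refine mem_centralizer_iff.2 fun y hy => ?_
      have hy1 : a * b * y * (a * b)⁻¹ * y⁻¹ = 1 := by
        have h1 : a * b * y * (a * b)⁻¹ * y⁻¹ ∈ O := by
          have h2 := O.mul_mem ho (hOn y (hEC (hE₀E hy)) _ (O.inv_mem ho))
          simpa [mul_assoc] using h2
        have h2 : a * b * y * (a * b)⁻¹ * y⁻¹ ∈ E₀ := E₀.mul_mem (hE₀C _ hoC y hy) (E₀.inv_mem hy)
        have h3 : (⟨_, h2⟩ : E₀) ∈ O.subgroupOf E₀ := h1
        rw [hinter, mem_bot] at h3
        exact congrArg Subtype.val h3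
      have hay : a * y = y * a := htE a ha y (hE₀E hy)
      have hby : b * y * b⁻¹ ∈ E := E.mul_mem (E.mul_mem hb (hE₀E hy)) (E.inv_mem hb)
      rw [show a * b * y * (a * b)⁻¹ = a * (b * y * b⁻¹) * a⁻¹ by group,
        htE a ha _ hby, mul_inv_cancel_right, mul_inv_eq_one, mul_inv_eq_iff_eq_mul] at hy1
      exact hy1.symm
    rw [hb1, mul_one] at ho ⊢
    rcases hzp a ha with rfl | rfl
    · rfl
    · have := hOodd.of_dvd_nat (O.orderOf_dvd_natCard ho)
      rw [ht] at this; exact absurd this (by decide)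
  obtain ⟨L, hL⟩ := Walter3.exists_fieldSetup P hna h8 hel h21 htP ht1 hO hns
  obtain ⟨F', i', j', h38, h5', ⟨e⟩⟩ := Walter3.cent_iso_of_fieldPart_eq_bot P hL ht
    (hField P h8 hel h21 t ht htP L hL)
  exact isCoatom_of_iso hna P h8 hel h21 ht htP hO h38 h5' e

end Cfsg.Lib.CentMax
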